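import Cfsg.Agent.Lib.AutoOrder.Main

/-!
Normal `p`-complements forced by the smallness of the Sylow subgroups.
-/

set_option autoImplicit false

namespace CfsgLib.AutoOrder

open Subgroup

universe u

variable {G : Type u} [Group G] [Finite G]

/-- S3969. -/
theorem hasNormalPComplement_of_abelian {p : ℕ} [hp : Fact p.Prime] (P : Sylow p G)
    (hab : IsMulCommutative (P : Subgroup G))
    (hd : ∀ i ∈ Finset.Icc 1 (Group.rank (P : Subgroup G)), ∀ q : ℕ, q.Prime →
      q ∣ Nat.card G → q ≠ p → ¬ q ∣ p ^ i - 1) : Cfsg.HasNormalPComplement p G := by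
  refine Transfer.hasNormalPComplement_of_normalizer_le P fun g hg => ?_
  refine ClassMul.mem_of_forall_primary _ g fun q k hq hk hdvd => ?_
  set y := g ^ (orderOf g / q ^ k) with hy
  have hyo : orderOf y = q ^ k := orderOf_pow_orderOf_div (orderOf_pos g).ne' hdvd
  have hyN : y ∈ normalizer ((P : Subgroup G) : Set G) := pow_mem hg _
  rcases eq_or_ne q p with rfl | hne
  · have hyP : y ∈ (P : Subgroup G) :=
      Transfer.isPGroup_mem_of_mem_normalizer P hyN k (by rw [← hyo, pow_orderOf_eq_one])
    rw [mem_centralizer_iff]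
    intro z hz
    exact congrArg Subtype.val (hab.is_comm.comm (⟨z, hz⟩ : (P : Subgroup G)) ⟨y, hyP⟩)
  letI : CommGroup (P : Subgroup G) :=
    { (inferInstance : Group (P : Subgroup G)) with mul_comm := hab.is_comm.comm }
  have hqG : q ∣ Nat.card G :=
    ((dvd_pow_self q hk.ne').trans hdvd).trans (_root_.orderOf_dvd_natCard g)
  have h1 := eq_one_of_abelian (P := (P : Subgroup G)) P.2 hq hne
    (fun i hi => hd i hi q hq hqG hne)
    ((P : Subgroup G).normalizerMonoidHom ⟨y, hyN⟩) (b := k) (by
      rw [← map_pow, show (⟨y, hyN⟩ : normalizer ((P : Subgroup G) : Set G)) ^ q ^ k = 1 from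
        Subtype.ext (by simp [← hyo, pow_orderOf_eq_one]), map_one])
  have h2 : (⟨y, hyN⟩ : normalizer ((P : Subgroup G) : Set G)) ∈
      (P : Subgroup G).normalizerMonoidHom.ker := h1
  rw [normalizerMonoidHom_ker, mem_subgroupOf] at h2
  exact h2

/-- S3970. -/
theorem isSolvable_of_small_sylows (n : ℕ) : ∀ {G : Type u} [Group G] [Finite G], Nat.card G = n →
    (∀ p : ℕ, p.Prime → p ∣ Nat.card G → (∃ q : ℕ, q.Prime ∧ q ∣ Nat.card G ∧ p < q) →
      ∀ P : Sylow p G, IsMulCommutative (P : Subgroup G) ∧ Group.rank (P : Subgroup G) ≤ 2) →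
    ¬ 12 ∣ Nat.card G → Group.IsSolvable G := by
  induction n using Nat.strong_induction_on with
  | _ n IH =>
    intro G _ _ hn h h12
    rcases subsingleton_or_nontrivial G with hs | hs
    · infer_instance
    have hG1 : Nat.card G ≠ 1 := Finite.one_lt_card.ne'
    set p := (Nat.card G).minFac with hp
    have hpp : p.Prime := Nat.minFac_prime hG1
    have : Fact p.Prime := ⟨hpp⟩
    have hpd : p ∣ Nat.card G := Nat.minFac_dvd _
    have hmin : ∀ q : ℕ, q.Prime → q ∣ Nat.card G → p ≤ q := fun q hq hd =>
      Nat.minFac_le_of_dvd hq.two_le hd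
    by_cases hbig : ∃ q : ℕ, q.Prime ∧ q ∣ Nat.card G ∧ p < q
    swap
    · -- `G` is a `p`-group
      push Not at hbig
      have hG : IsPGroup p G := by
        intro g
        obtain ⟨k, hk⟩ : ∃ k, orderOf g = p ^ k := by
          refine ⟨_, Nat.eq_prime_pow_of_unique_prime_dvd (orderOf_pos g).ne' fun {q} hq hd => ?_⟩
          have hqG := hd.trans (_root_.orderOf_dvd_natCard g)
          exact le_antisymm (hbig q hq hqG) (hmin q hq hqG)
        exact ⟨k, hk ▸ pow_orderOf_eq_one g⟩
      have := hG.isNilpotent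
      infer_instance
    let P : Sylow p G := default
    obtain ⟨hab, hrk⟩ := h p hpp hpd hbig P
    have hNC : Cfsg.HasNormalPComplement p G := by
      refine hasNormalPComplement_of_abelian P hab fun i hi q hq hqG hqp hdiv => ?_
      rw [Finset.mem_Icc] at hi
      have hlt : p < q := lt_of_le_of_ne (hmin q hq hqG) hqp.symm
      have hq1 : ¬ q ∣ p - 1 := fun hh => by
        rcases Nat.eq_zero_or_pos (p - 1) with h0 | h0
        · have := hpp.two_le; omega
        · have := Nat.le_of_dvd h0 hh; omega
      rcases (show i = 1 ∨ i = 2 by omega) with rfl | rfl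
      · exact hq1 (by simpa using hdiv)
      rw [show p ^ 2 - 1 = (p + 1) * (p - 1) by
        rw [← Nat.sq_sub_sq, one_pow]] at hdiv
      have hqp1 := ((Nat.Prime.dvd_mul hq).1 hdiv).resolve_right hq1
      have hle := Nat.le_of_dvd (by omega) hqp1
      have hq' : q = p + 1 := by omega
      have hp2 : p = 2 := by
        rcases hpp.eq_two_or_odd' with h2 | h2
        · exact h2
        · have hev : Even q := hq' ▸ h2.add_one
          have := (Nat.Prime.even_iff hq).1 hev
          have := hpp.two_le
          omega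
      -- then the Sylow `2`-subgroup has order `2`
      have h3 : 3 ∣ Nat.card G := by
        have : q = 3 := by omega
        exact this ▸ hqG
      obtain ⟨k, hk⟩ := IsPGroup.iff_card.1 P.2
      have hk1 : k ≤ 1 := by
        by_contra hk2
        refine h12 ?_
        have h4 : 4 ∣ Nat.card G := by
          refine dvd_trans ?_ (card_subgroup_dvd_card (P : Subgroup G))
          rw [hk, hp2]
          exact pow_dvd_pow 2 (show 2 ≤ k by omega)
        exact Nat.Coprime.mul_dvd_of_dvd_of_dvd (by norm_num : Nat.Coprime 4 3) h4 h3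
      have hcyc : IsCyclic (P : Subgroup G) := by
        rcases Nat.le_one_iff_eq_zero_or_eq_one.1 hk1 with rfl | rfl
        · rw [pow_zero] at hk
          have := (Nat.card_eq_one_iff_unique.1 hk).1
          infer_instance
        · exact isCyclic_of_prime_card (hk.trans (pow_one p))
      obtain ⟨g, hg⟩ := hcyc.exists_generator
      have hr1 : Group.rank (P : Subgroup G) ≤ 1 := by
        refine le_trans (Group.rank_le (S := {g}) ?_) (by simp)
        rw [eq_top_iff]
        intro x _
        simpa [zpowers_eq_closure] using hg x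
      omega
    obtain ⟨P', N, hN, hc⟩ := hNC
    have hcard : Nat.card N * Nat.card (P' : Subgroup G) = Nat.card G := hc.card_mul_card
    have hNp : ¬ p ∣ Nat.card N := by rw [← hc.index_eq_card]; exact P'.not_dvd_index
    have hlt : Nat.card N < n := by
      rw [← hn, ← hcard]
      refine lt_mul_of_one_lt_right Nat.card_pos ?_
      exact (one_lt_card_iff_ne_bot (P' : Subgroup G)).2 (P'.ne_bot_of_dvd_card hpd)
    have hNs : Group.IsSolvable N := by
      refine IH _ hlt rfl (fun r hr hrN hex R => ?_)
        (fun hh => h12 (hh.trans (card_subgroup_dvd_card N)))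
      have : Fact r.Prime := ⟨hr⟩
      obtain ⟨s, hs, hsN, hrs⟩ := hex
      have hR' : ¬ r ∣ ((R : Subgroup N).map N.subtype).index := by
        rw [index_map_subtype]
        intro hd
        rcases (Nat.Prime.dvd_mul hr).1 hd with h' | h'
        · exact R.not_dvd_index h'
        · rw [hc.symm.index_eq_card] at h'
          obtain ⟨k, hk⟩ := IsPGroup.iff_card.1 P'.2
          rw [hk] at h'
          exact hNp ((Nat.prime_dvd_prime_iff_eq hr hpp).1 (hr.dvd_of_dvd_pow h') ▸ hrN)
      obtain ⟨hab', hrk'⟩ := h r hr (hrN.trans (card_subgroup_dvd_card N))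
        ⟨s, hs, hsN.trans (card_subgroup_dvd_card N), hrs⟩ ((R.2.map N.subtype).toSylow hR')
      rw [IsPGroup.toSylow_coe] at hab'
      let e := (R : Subgroup N).equivMapOfInjective N.subtype N.subtype_injective
      refine ⟨⟨⟨fun a b => e.injective (by rw [map_mul, map_mul]; exact hab'.is_comm.comm _ _)⟩⟩, ?_⟩
      rw [Group.rank_congr (e.trans (MulEquiv.subgroupCongr (IsPGroup.toSylow_coe _ hR').symm))]
      exact hrk'
    have hq : IsPGroup p (G ⧸ N) := by
      obtain ⟨k, hk⟩ := IsPGroup.iff_card.1 P'.2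
      exact IsPGroup.of_card (n := k) (by rw [← index_eq_card, hc.symm.index_eq_card, hk])
    have := hq.isNilpotent
    exact Group.isSolvable_of_ker_le_range N.subtype (QuotientGroup.mk' N)
      ((QuotientGroup.ker_mk' N).trans (Subgroup.range_subtype N).symm).le

/-- S3971. -/
theorem exists_normal_odd_hall (a n : ℕ) (hG : Nat.card G = 2 ^ a * n) (hn : Odd n)
    (h3 : ¬ 3 ∣ n) (hx : ∃ x : G, orderOf x = 2 ^ (a - 1)) :
    ∃ N : Subgroup G, N.Normal ∧ Nat.card N = n := by
  have : Fact (Nat.Prime 2) := ⟨Nat.prime_two⟩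
  obtain ⟨x, hx⟩ := hx
  obtain ⟨P, hP⟩ := (IsPGroup.of_card (p := 2) (n := a - 1)
    ((Nat.card_zpowers x).trans hx)).exists_le_sylow
  have hPcard : Nat.card (P : Subgroup G) = 2 ^ a := by
    rw [P.card_eq_multiplicity, hG]
    congr 1
    rw [Nat.factorization_mul (by positivity) (Nat.pos_iff_ne_zero.1 hn.pos)]
    simp [Nat.Prime.factorization_pow Nat.prime_two,
      Nat.factorization_eq_zero_of_not_dvd hn.not_two_dvd_nat]
  have hfc : Transfer.FrobeniusCond 2 G := by
    refine Transfer.frobeniusCond_of_le_sylow P fun Q hQP g hg hc => ?_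
    -- a cyclic subgroup of index at most two of `Q`
    set X := (zpowers x).subgroupOf Q with hX
    have hXcyc : IsCyclic X := by
      have e : X ≃* (zpowers x ⊓ Q : Subgroup G) :=
        (X.equivMapOfInjective Q.subtype Q.subtype_injective).trans
          (MulEquiv.subgroupCongr (subgroupOf_map_subtype _ _))
      have : IsCyclic (zpowers x ⊓ Q : Subgroup G) :=
        isCyclic_of_injective (inclusion inf_le_left) (inclusion_injective _)
      exact isCyclic_of_surjective e.symm e.symm.surjective
    have hXidx : X.index ≤ 2 := by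
      show (zpowers x).relIndex Q ≤ 2
      have h1 := index_mul_card ((zpowers x).subgroupOf (P : Subgroup G))
      rw [Nat.card_congr (subgroupOfEquivOfLe hP).toEquiv, Nat.card_zpowers, hx, hPcard] at h1
      have h2 : (zpowers x).relIndex (P : Subgroup G) ≤ 2 := by
        show ((zpowers x).subgroupOf (P : Subgroup G)).index ≤ 2
        rcases a.eq_zero_or_pos with rfl | ha
        · simp only [Nat.zero_sub, pow_zero, mul_one] at h1
          omega
        · rw [show 2 ^ a = 2 * 2 ^ (a - 1) by rw [← pow_succ']; congr 1; omega] at h1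
          exact (Nat.eq_of_mul_eq_mul_right (pow_pos two_pos _) h1).le
      refine le_trans ?_ h2
      exact relIndex_le_of_le_right hQP (by
        exact index_ne_zero_of_finite (H := (zpowers x).subgroupOf (P : Subgroup G)))
    obtain ⟨⟨c, hcX⟩, hcgen⟩ := hXcyc.exists_generator
    have hXc : X = zpowers c := le_antisymm (fun z hz => by
      obtain ⟨i, hi⟩ := mem_zpowers_iff.1 (hcgen ⟨z, hz⟩)
      exact ⟨i, congrArg Subtype.val hi⟩) (zpowers_le.2 hcX)
    refine ClassMul.mem_of_forall_primary _ g fun q k hq hk hdvd => ?_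
    set y := g ^ (orderOf g / q ^ k) with hy
    have hyo : orderOf y = q ^ k := orderOf_pow_orderOf_div (orderOf_pos g).ne' hdvd
    have hyN : y ∈ normalizer (Q : Set G) := pow_mem hg _
    have hq2 : q ≠ 2 := fun h => Nat.prime_two.coprime_iff_not_dvd.1 hc.symm
      (h ▸ (dvd_pow_self q hk.ne').trans hdvd)
    have hq3 : q ≠ 3 := fun h => by
      have h' : 3 ∣ Nat.card G :=
        h ▸ ((dvd_pow_self q hk.ne').trans hdvd).trans (_root_.orderOf_dvd_natCard g)
      rw [hG] at h'
      exact h3 ((Nat.Coprime.pow_right a (by norm_num : Nat.Coprime 3 2)).dvd_of_dvd_mul_left h')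
    have h1 := eq_one_of_cyclic_index_two (Q := Q) (P.2.to_le hQP) c (hXc ▸ hXidx) hq
      (by have := hq.two_le; omega) (Q.normalizerMonoidHom ⟨y, hyN⟩) (b := k) (by
        rw [← map_pow, show (⟨y, hyN⟩ : normalizer (Q : Set G)) ^ q ^ k = 1 from
          Subtype.ext (by simp [← hyo, pow_orderOf_eq_one]), map_one])
    have h2 : (⟨y, hyN⟩ : normalizer (Q : Set G)) ∈ Q.normalizerMonoidHom.ker := h1
    rw [normalizerMonoidHom_ker, mem_subgroupOf] at h2
    exact h2
  obtain ⟨P', N, hN, hc⟩ := Transfer.hasNormalPComplement_of_frobeniusCond hfc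
  refine ⟨N, hN, ?_⟩
  have h1 : Nat.card N * Nat.card (P' : Subgroup G) = Nat.card G := hc.card_mul_card
  rw [P'.card_eq_multiplicity, ← P.card_eq_multiplicity, hPcard, hG, mul_comm (2 ^ a) n] at h1
  exact Nat.eq_of_mul_eq_mul_right (pow_pos two_pos a) h1

end CfsgLib.AutoOrder
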