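import Cfsg.Agent.Lib.Transfer.NormalComplement
import Cfsg.Agent.Lib.ClassMul.Main

/-!
Automorphisms of coprime order of small `p`-groups are trivial, and the resulting normal
`p`-complement theorems.
-/

set_option autoImplicit false

namespace CfsgLib.AutoOrder

open Subgroup

universe u

/-- An automorphism of `q`-power order of a finite abelian `p`-group with `d` generators is trivial
when `q` divides none of `p ^ i - 1`, `1 ≤ i ≤ d`. -/
theorem eq_one_of_abelian {P : Type u} [CommGroup P] [Finite P] {p q : ℕ} [hp : Fact p.Prime]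
    (hP : IsPGroup p P) (hq : q.Prime) (hqp : q ≠ p)
    (hd : ∀ i ∈ Finset.Icc 1 (Group.rank P), ¬ q ∣ p ^ i - 1)
    (σ : MulAut P) {b : ℕ} (hσ : σ ^ q ^ b = 1) : σ = 1 := by
  classical
  have : Fact q.Prime := ⟨hq⟩
  set M : Subgroup P := (powMonoidHom p : P →* P).range with hM
  have hMinv : ∀ a : MulAut P, M ≤ M.comap a.toMonoidHom := by
    rintro a _ ⟨w, rfl⟩
    exact ⟨a w, by simp [powMonoidHom_apply]⟩
  let A : Subgroup (MulAut P) := zpowers σ
  letI : MulAction A (P ⧸ M) :=
    { smul := fun a v => QuotientGroup.map M M (a : MulAut P).toMonoidHom (hMinv a) v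
      one_smul := fun v => by induction v using QuotientGroup.induction_on; rfl
      mul_smul := fun a c v => by induction v using QuotientGroup.induction_on; rfl }
  have hA : IsPGroup q A := by
    rintro ⟨a, i, rfl⟩
    refine ⟨b, Subtype.ext ?_⟩
    simp only [SubmonoidClass.coe_pow, coe_one]
    rw [← zpow_natCast, ← zpow_mul, mul_comm, zpow_mul, zpow_natCast, hσ, one_zpow]
  have hmod := hA.card_modEq_card_fixedPoints (α := P ⧸ M)
  let F : Subgroup (P ⧸ M) :=
    { carrier := MulAction.fixedPoints A (P ⧸ M)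
      one_mem' := fun a => map_one _
      mul_mem' := fun {x y} hx hy a => by
        have h1 : a • x = x := hx a
        have h2 : a • y = y := hy a
        show QuotientGroup.map M M _ (hMinv a) (x * y) = x * y
        rw [map_mul]
        exact congrArg₂ (· * ·) h1 h2
      inv_mem' := fun {x} hx a => by
        show QuotientGroup.map M M _ (hMinv a) x⁻¹ = x⁻¹
        rw [map_inv]
        exact congrArg Inv.inv (hx a) }
  have hexp : ∀ v : P ⧸ M, v ^ p = 1 := by
    intro v
    induction v using QuotientGroup.induction_on with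
    | H w => rw [← QuotientGroup.mk_pow, QuotientGroup.eq_one_iff]; exact ⟨w, rfl⟩
  obtain ⟨e, he, he'⟩ := (Nat.dvd_prime_pow hp.out).1 ((card_dvd_exponent_pow_rank' _ hexp).trans
    (pow_dvd_pow p (Group.rank_le_of_surjective _ (QuotientGroup.mk'_surjective M))))
  obtain ⟨f, hf, hf'⟩ := (Nat.dvd_prime_pow hp.out).1 (he' ▸ card_subgroup_dvd_card F)
  have hFtop : F = ⊤ := by
    refine eq_top_of_card_eq _ ?_
    rcases eq_or_lt_of_le hf with rfl | hlt
    · rw [hf', he']
    exfalso
    have hFc : Nat.card (MulAction.fixedPoints A (P ⧸ M)) = p ^ f := hf'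
    rw [he', hFc] at hmod
    have h1 : q ∣ p ^ e - p ^ f :=
      (Nat.modEq_iff_dvd' (Nat.pow_le_pow_right hp.out.pos hlt.le)).1 hmod.symm
    rw [show p ^ e - p ^ f = p ^ f * (p ^ (e - f) - 1) by
      rw [Nat.mul_sub, mul_one, ← pow_add, Nat.add_sub_cancel' hlt.le]] at h1
    rcases (Nat.Prime.dvd_mul hq).1 h1 with h | h
    · exact hqp ((Nat.prime_dvd_prime_iff_eq hq hp.out).1 (hq.dvd_of_dvd_pow h))
    · exact hd (e - f) (Finset.mem_Icc.2 ⟨by omega, by omega⟩) h
  -- each coset of `M` is invariant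
  have hcoset : ∀ (a : MulAut P), a ∈ A → ∀ v : P, ∃ m ∈ M, a v = v * m := by
    intro a ha v
    have h1 : (QuotientGroup.mk v : P ⧸ M) ∈ F := by rw [hFtop]; trivial
    have h2 : (QuotientGroup.mk (a v) : P ⧸ M) = QuotientGroup.mk v := h1 ⟨a, ha⟩
    exact ⟨v⁻¹ * a v, QuotientGroup.eq.1 h2.symm, by simp⟩
  -- fixed points
  let C : Subgroup P := MonoidHom.eqLocus σ.toMonoidHom (MonoidHom.id P)
  set n := q ^ b
  have hbase : ∀ v : P, v ∈ C ⊔ M := by
    intro v
    have hfix : (∏ i ∈ Finset.range n, (σ ^ i) v) ∈ C := by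
      show σ (∏ i ∈ Finset.range n, (σ ^ i) v) = ∏ i ∈ Finset.range n, (σ ^ i) v
      rw [map_prod]
      have h1 : ∀ i, σ ((σ ^ i) v) = (σ ^ (i + 1)) v := fun i => by
        rw [pow_succ' σ i]; rfl
      simp only [h1]
      have h2 := (Finset.prod_range_succ' (fun i => (σ ^ i) v) n).symm.trans
        (Finset.prod_range_succ (fun i => (σ ^ i) v) n)
      rw [hσ, pow_zero, mul_left_inj] at h2
      exact h2
    have hprod : v ^ n * ((∏ i ∈ Finset.range n, (σ ^ i) v))⁻¹ ∈ M := by
      have : ∀ i, v * ((σ ^ i) v)⁻¹ ∈ M := fun i => by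
        obtain ⟨m, hm, hm'⟩ := hcoset _ (pow_mem (mem_zpowers σ) i) v
        rw [hm', mul_inv_rev, mul_comm m⁻¹, mul_inv_cancel_left]
        exact inv_mem hm
      have h2 := prod_mem (B := Subgroup P) (S := M) (t := Finset.range n) (fun i _ => this i)
      rwa [Finset.prod_mul_distrib, Finset.prod_const, Finset.card_range, Finset.prod_inv_distrib]
        at h2
    have hvn : v ^ n ∈ C ⊔ M := by
      have := mul_mem (le_sup_right (a := C) hprod) (le_sup_left (b := M) hfix)
      rwa [inv_mul_cancel_right] at this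
    have hcop : n.Coprime p := ((Nat.coprime_primes hq hp.out).2 hqp).pow_left b
    have hz : (n : ℤ) * Nat.gcdA n p + (p : ℤ) * Nat.gcdB n p = 1 := by
      rw [← Nat.gcd_eq_gcd_ab, hcop.gcd_eq_one]; rfl
    rw [← zpow_one v, ← hz, zpow_add, zpow_mul, zpow_mul, zpow_natCast, zpow_natCast]
    exact mul_mem (zpow_mem hvn _) (le_sup_right (a := C) (zpow_mem (show v ^ p ∈ M from ⟨v, rfl⟩) _))
  have hall : ∀ k : ℕ, ∀ v : P, ∃ c ∈ C, ∃ w : P, v = c * w ^ p ^ k := by
    intro k
    induction k with
    | zero => exact fun v => ⟨1, one_mem C, v, by simp⟩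
    | succ k ih =>
      intro v
      obtain ⟨c, hc, w, rfl⟩ := ih v
      obtain ⟨c', hc', m, ⟨z, rfl⟩, rfl⟩ := mem_sup.1 (hbase w)
      refine ⟨c * c' ^ p ^ k, mul_mem hc (pow_mem hc' _), z, ?_⟩
      rw [powMonoidHom_apply, mul_pow, mul_assoc, ← pow_mul, ← pow_succ']
  obtain ⟨m, hm⟩ := IsPGroup.iff_card.1 hP
  ext v
  obtain ⟨c, hc, w, rfl⟩ := hall m v
  rw [← hm, pow_card_eq_one', mul_one]
  exact hc

/-- An automorphism of `q`-power order, `q ≥ 5`, of a `2`-group with a cyclic subgroup of index at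
most `2` is trivial. -/
theorem eq_one_of_cyclic_index_two {Q : Type u} [Group Q] [Finite Q] (hQ : IsPGroup 2 Q)
    (c : Q) (hc : (zpowers c).index ≤ 2) {q : ℕ} (hq : q.Prime) (hq5 : 3 < q)
    (σ : MulAut Q) {b : ℕ} (hσ : σ ^ q ^ b = 1) : σ = 1 := by
  classical
  have : Fact (Nat.Prime 2) := ⟨Nat.prime_two⟩
  have hodd : (q ^ b).Coprime 2 :=
    ((Nat.coprime_primes hq Nat.prime_two).2 (by omega)).pow_left b
  -- an automorphism of odd order of a cyclic `2`-group is trivial
  have hfix : ∀ (x : Q) (τ : MulAut Q), τ ^ q ^ b = 1 → τ x ∈ zpowers x → τ x = x := by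
    intro x τ hτ hx
    obtain ⟨r, hr⟩ := mem_zpowers_iff.1 hx
    have hiter : ∀ n : ℕ, (τ ^ n) x = x ^ (r ^ n) := by
      intro n
      induction n with
      | zero => simp
      | succ n ih =>
        rw [pow_succ', MulAut.mul_apply, ih, map_zpow, ← hr, ← zpow_mul, pow_succ']
    obtain ⟨k, hk⟩ := IsPGroup.iff_orderOf.1 hQ x
    rcases k.eq_zero_or_pos with rfl | hk0
    · rw [pow_zero, orderOf_eq_one_iff] at hk
      rw [hk, map_one]
    have h1 : x ^ (r ^ (q ^ b) - 1) = 1 := by
      rw [zpow_sub_one, ← hiter, hτ, MulAut.one_apply, mul_inv_cancel]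
    rw [← orderOf_dvd_iff_zpow_eq_one, hk] at h1
    push_cast at h1
    have hr1 : (2 : ℤ) ∣ r - 1 := by
      have h2 : (2 : ℤ) ∣ r ^ (q ^ b) - 1 := (dvd_pow_self _ hk0.ne').trans h1
      have hr0 : Odd (r ^ (q ^ b)) := by
        obtain ⟨t, ht⟩ := h2
        exact ⟨t, by linarith⟩
      obtain ⟨t, ht⟩ := (Int.odd_pow' (pow_pos hq.pos b).ne').1 hr0
      exact ⟨t, by rw [ht]; ring⟩
    have h2 : ((2 : ℕ) : ℤ) ^ (k + 1) ∣ r ^ (2 ^ k) - 1 ^ (2 ^ k) := dvd_sub_pow_of_dvd_sub hr1 k
    rw [one_pow] at h2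
    have h3 : (τ ^ (2 ^ k)) x = x := by
      rw [hiter]
      refine mul_inv_eq_one.1 ?_
      rw [← zpow_sub_one, ← orderOf_dvd_iff_zpow_eq_one, hk]
      push_cast
      exact (pow_dvd_pow _ (Nat.le_succ k)).trans (by exact_mod_cast h2)
    have hz : ((q ^ b : ℕ) : ℤ) * Nat.gcdA (q ^ b) (2 ^ k)
        + ((2 ^ k : ℕ) : ℤ) * Nat.gcdB (q ^ b) (2 ^ k) = 1 := by
      rw [← Nat.gcd_eq_gcd_ab, (hodd.pow_right k).gcd_eq_one]; rfl
    let S : Subgroup (MulAut Q) := MulAction.stabilizer (MulAut Q) x
    have h4 : τ ∈ S := by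
      rw [← zpow_one τ, ← hz, zpow_add, zpow_mul, zpow_mul, zpow_natCast, zpow_natCast, hτ,
        one_zpow, one_mul]
      exact zpow_mem (show τ ^ 2 ^ k ∈ S from h3) _
    exact h4
  -- the cyclic subgroup is invariant
  set A := zpowers c
  have hA : ∀ j : ℤ, (σ ^ j) c ∈ A := by
    rcases eq_or_ne c 1 with hc1 | hc1
    · intro j
      rw [hc1, map_one]
      exact one_mem _
    rcases Nat.lt_or_ge A.index 2 with h2 | h2
    · intro j
      have hpos : A.index ≠ 0 := index_ne_zero_of_finite
      have : A = ⊤ := index_eq_one.1 (by omega)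
      rw [this]; trivial
    -- the orbit of `A` has at most three members
    have hAi : A.index = 2 := le_antisymm hc h2
    set K := zpowers (c ^ 2)
    let S : Set (Subgroup Q) := {B | ∃ d : Q, B = zpowers d ∧ K ≤ B ∧ d ∉ K ∧ B.index = 2}
    have hKA : K ≤ A := zpowers_le.2 (pow_mem (mem_zpowers c) 2)
    have hKi : K.index ≤ 4 := by
      have h1 : Nat.card A ≤ 2 * Nat.card K := by
        rw [Nat.card_zpowers, Nat.card_zpowers, orderOf_pow' c two_ne_zero]
        have h2 : (orderOf c).gcd 2 ≤ 2 := Nat.le_of_dvd two_pos (Nat.gcd_dvd_right _ _)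
        have h3 : (orderOf c).gcd 2 ∣ orderOf c := Nat.gcd_dvd_left _ _
        calc orderOf c = (orderOf c).gcd 2 * (orderOf c / (orderOf c).gcd 2) :=
              (Nat.mul_div_cancel' h3).symm
          _ ≤ 2 * _ := Nat.mul_le_mul_right _ h2
      have h4 := index_mul_card A
      have h5 := index_mul_card K
      rw [hAi] at h4
      by_contra hlt
      push Not at hlt
      have : 5 * Nat.card K ≤ K.index * Nat.card K := Nat.mul_le_mul_right _ hlt
      have := Nat.card_pos (α := K)
      omega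
    have hS : S.ncard ≤ 3 := by
      let g : S → {z : Q ⧸ K // z ≠ QuotientGroup.mk 1} := fun B =>
        ⟨QuotientGroup.mk B.2.choose, fun h => B.2.choose_spec.2.2.1 (by
          have := QuotientGroup.eq.1 h
          simpa using inv_mem this)⟩
      have hg : Function.Injective g := by
        intro B B' h
        have hd := congrArg Subtype.val h
        simp only [g] at hd
        rw [QuotientGroup.eq] at hd
        obtain ⟨hB, hKB, -, hBi⟩ := B.2.choose_spec
        obtain ⟨hB', -, -, hBi'⟩ := B'.2.choose_spec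
        apply Subtype.ext
        set d := B.2.choose
        set d' := B'.2.choose
        have hle : (B' : Subgroup Q) ≤ (B : Subgroup Q) := by
          rw [hB', zpowers_le]
          have h1 : d ∈ (B : Subgroup Q) := by rw [hB]; exact mem_zpowers d
          simpa using mul_mem h1 (hKB hd)
        refine (eq_of_le_of_card_ge hle ?_).symm
        have h1 := index_mul_card (B : Subgroup Q)
        have h2 := index_mul_card (B' : Subgroup Q)
        rw [hBi] at h1
        rw [hBi'] at h2
        omega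
      have h1 := Nat.card_le_card_of_injective g hg
      have h2 : Nat.card {z : Q ⧸ K // z ≠ QuotientGroup.mk 1} = K.index - 1 := by
        have h3 : Nat.card {z : Q ⧸ K // z ≠ QuotientGroup.mk 1}
            = ({(QuotientGroup.mk 1 : Q ⧸ K)}ᶜ : Set (Q ⧸ K)).ncard := Nat.card_coe_set_eq _
        rw [h3, Set.ncard_compl, Set.ncard_singleton]
        rfl
      rw [Nat.card_coe_set_eq] at h1
      omega
    intro j
    -- the orbit of `A` under `σ`
    let H : Subgroup (MulAut Q) := zpowers σ
    letI : MulAction H (Subgroup Q) :=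
      { smul := fun a B => B.map (a : MulAut Q).toMonoidHom
        one_smul := fun B => B.map_id
        mul_smul := fun a c B => by
          show B.map _ = (B.map _).map _
          rw [Subgroup.map_map]; rfl }
    have hsub : MulAction.orbit H A ⊆ S := by
      rintro _ ⟨⟨a, ha⟩, rfl⟩
      show A.map a.toMonoidHom ∈ S
      refine ⟨a c, MonoidHom.map_zpowers _ c, ?_, ?_, ?_⟩
      · intro z hz
        obtain ⟨i, rfl⟩ := mem_zpowers_iff.1 hz
        rw [MonoidHom.map_zpowers]
        refine zpow_mem ?_ i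
        -- squares of elements outside `⟨a c⟩` are squares in it
        have hidx : (zpowers (a c)).index = 2 := by
          show (zpowers (a.toMonoidHom c)).index = 2
          rw [← MonoidHom.map_zpowers, index_map_of_bijective a.bijective, hAi]
        exact sq_mem_of_index_two hidx c
      · intro hmem
        have h1 : orderOf (a c) ≤ orderOf (c ^ 2) := by
          rw [← Nat.card_zpowers, ← Nat.card_zpowers (c ^ 2)]
          exact Nat.le_of_dvd Nat.card_pos (card_dvd_of_le (zpowers_le.2 hmem))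
        rw [MulEquiv.orderOf_eq, orderOf_pow' c two_ne_zero] at h1
        obtain ⟨k, hk⟩ := IsPGroup.iff_orderOf.1 hQ c
        rcases k.eq_zero_or_pos with rfl | hk0
        · exact hc1 (orderOf_eq_one_iff.1 (by rw [hk, pow_zero]))
        have h2 : (orderOf c).gcd 2 = 2 := Nat.gcd_eq_right (hk ▸ dvd_pow_self 2 hk0.ne')
        rw [h2] at h1
        have := orderOf_pos c
        omega
      · rw [index_map_of_bijective a.bijective, hAi]
    have hHp : IsPGroup q H := by
      rintro ⟨a, i, rfl⟩
      refine ⟨b, Subtype.ext ?_⟩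
      simp only [SubmonoidClass.coe_pow, coe_one]
      rw [← zpow_natCast, ← zpow_mul, mul_comm, zpow_mul, zpow_natCast, hσ, one_zpow]
    have : Fact q.Prime := ⟨hq⟩
    obtain ⟨e, he⟩ := hHp.index (MulAction.stabilizer H A)
    rw [MulAction.index_stabilizer] at he
    have h5 : q ^ e ≤ 3 := he ▸ (Set.ncard_le_ncard hsub (Set.toFinite _)).trans hS
    rcases e.eq_zero_or_pos with rfl | he0
    swap
    · exact absurd h5 (by have := Nat.le_self_pow he0.ne' q; omega)
    rw [pow_zero, Set.ncard_eq_one] at he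
    obtain ⟨B, hB⟩ := he
    have h6 : ∀ a : H, a • A = A := fun a => by
      have h7 : a • A ∈ MulAction.orbit H A := MulAction.mem_orbit A a
      have h8 : A ∈ MulAction.orbit H A := MulAction.mem_orbit_self A
      rw [hB, Set.mem_singleton_iff] at h7 h8
      rw [h7, h8]
    have := h6 ⟨σ ^ j, zpow_mem (mem_zpowers σ) j⟩
    change A.map _ = A at this
    rw [← this]
    exact ⟨c, mem_zpowers c, rfl⟩
  have hσc : σ c = c := hfix c σ hσ (by simpa using hA 1)
  ext y
  by_cases hy : y ∈ A
  · obtain ⟨i, rfl⟩ := mem_zpowers_iff.1 hy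
    rw [map_zpow, hσc, MulAut.one_apply]
  have hA2 : A.index = 2 := by
    rcases Nat.lt_or_ge A.index 2 with h | h
    · have : A.index ≠ 0 := index_ne_zero_of_finite
      exact absurd ((index_eq_one.1 (show A.index = 1 by omega)).symm ▸ mem_top y) hy
    · exact le_antisymm hc h
  -- `σ y = y * a`
  have hσy : y⁻¹ * σ y ∈ A := by
    rw [mul_mem_iff_of_index_two hA2, inv_mem_iff]
    refine iff_of_false hy fun h => hy ?_
    have := hA (-1)
    obtain ⟨i, hi⟩ := mem_zpowers_iff.1 h
    have : y = c ^ i := σ.injective (by rw [map_zpow, hσc, hi])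
    exact this ▸ zpow_mem (mem_zpowers c) i
  set a := y⁻¹ * σ y with ha
  have hσa : σ a = a := by
    obtain ⟨i, hi⟩ := mem_zpowers_iff.1 hσy
    rw [← hi, map_zpow, hσc]
  have hn : ∀ n : ℕ, (σ ^ n) y = y * a ^ n := by
    intro n
    induction n with
    | zero => simp
    | succ n ih =>
      rw [pow_succ', MulAut.mul_apply, ih, map_mul, map_pow, hσa, pow_succ', ← mul_assoc,
        show y * a = σ y by rw [ha]; group]
  have h1 : a ^ q ^ b = 1 := by
    have := hn (q ^ b)
    rw [hσ, MulAut.one_apply, left_eq_mul] at this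
    exact this
  obtain ⟨k, hk⟩ := IsPGroup.iff_orderOf.1 hQ a
  have : a = 1 := orderOf_eq_one_iff.1 (Nat.eq_one_of_dvd_coprimes (hodd.pow_right k)
    (orderOf_dvd_of_pow_eq_one h1) hk.dvd)
  rw [ha, inv_mul_eq_one] at this
  exact this.symm

end CfsgLib.AutoOrder
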